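import Mathlib
import Cfsg.Agent.H383.Cube.Num
import Cfsg.Agent.H986.EqD.CubeSB

/-!
# Counting signed permutations

* `card_invs_le` : the number of involutive signed permutations supported on `S` is at most `sB |S|`;
* `sum_sq` : the weight enumerator of the signed arrangements of a set of positive integers is `NB`.
-/

set_option autoImplicit false

namespace Cfsg.Agent.H461.SgnCount

open Cfsg.Agent.H383.Cube

/-! ### Involutions -/

section Inv

variable {α : Type*} [Fintype α] [DecidableEq α]

/-- involutive signed permutations of `α` supported on `S` -/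
def invs (S : Finset α) : Finset (α × Bool → α × Bool) :=
  Finset.univ.filter fun f => (∀ x t, f (x, !t) = ((f (x, t)).1, !(f (x, t)).2)) ∧ (∀ x, f (f x) = x) ∧
    ∀ x t, x ∉ S → f (x, t) = (x, t)

theorem mem_invs {S : Finset α} {f : α × Bool → α × Bool} : f ∈ invs S ↔
    (∀ x t, f (x, !t) = ((f (x, t)).1, !(f (x, t)).2)) ∧ (∀ x, f (f x) = x) ∧ ∀ x t, x ∉ S → f (x, t) = (x, t) := by
  simp [invs]

/-- reset the values on a set -/
def reset (p : α → Prop) [DecidablePred p] (f : α × Bool → α × Bool) : α × Bool → α × Bool :=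
  fun x => if p x.1 then x else f x

theorem reset_mem {S T : Finset α} {f : α × Bool → α × Bool} (hf : f ∈ invs S) (p : α → Prop) [DecidablePred p]
    (hp : ∀ x t, p x → p (f (x, t)).1) (hT : ∀ x, x ∈ S → x ∉ T → p x) : reset p f ∈ invs T := by
  obtain ⟨h1, h2, h3⟩ := mem_invs.1 hf
  have hp' : ∀ y : α × Bool, p (f y).1 → p y.1 := by
    intro y hy
    have := hp (f y).1 (f y).2 hy
    rwa [Prod.mk.eta, h2] at this
  refine mem_invs.2 ⟨?_, ?_, ?_⟩
  · intro x t
    unfold reset
    dsimp only
    by_cases hx : p x
    · rw [if_pos hx, if_pos hx]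
    · rw [if_neg hx, if_neg hx, h1]
  · intro x
    unfold reset
    by_cases hx : p x.1
    · rw [if_pos hx, if_pos hx]
    · rw [if_neg hx, if_neg (fun h => hx (hp' x h)), h2]
  · intro x t hx
    unfold reset
    dsimp only
    by_cases hp1 : p x
    · rw [if_pos hp1]
    · rw [if_neg hp1]
      by_cases hxS : x ∈ S
      · exact absurd (hT x hxS hx) hp1
      · exact h3 x t hxS

theorem reset_inj {f g : α × Bool → α × Bool} (p : α → Prop) [DecidablePred p]
    (h : reset p f = reset p g) (hp : ∀ x t, p x → f (x, t) = g (x, t)) : f = g := by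
  funext ⟨x, t⟩
  by_cases hx : p x
  · exact hp x t hx
  · have := congrFun h (x, t)
    unfold reset at this
    rwa [if_neg hx, if_neg hx] at this

theorem sB_succ (m : ℕ) : sB (m + 1) = 2 * sB m + 2 * m * sB (m - 1) := by
  rcases m with _ | m
  · rfl
  · rfl

theorem card_invs_le (S : Finset α) : (invs S).card ≤ sB S.card := by
  induction hn : S.card using Nat.strong_induction_on generalizing S with
  | _ n ih =>
    rcases Nat.eq_zero_or_pos n with h0 | hpos
    · subst h0
      rw [Finset.card_eq_zero] at hn
      subst hn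
      have : (invs (∅ : Finset α)) ⊆ {id} := by
        intro f hf
        obtain ⟨-, -, h3⟩ := mem_invs.1 hf
        rw [Finset.mem_singleton]
        funext ⟨x, t⟩
        exact h3 x t (Finset.notMem_empty x)
      exact (Finset.card_le_card this).trans (by simp [sB])
    · obtain ⟨m, rfl⟩ : ∃ m, n = m + 1 := ⟨n - 1, by omega⟩
      obtain ⟨a, ha⟩ : S.Nonempty := Finset.card_pos.1 (by omega)
      have hmaps : ∀ f ∈ invs S, f (a, true) ∈ S ×ˢ (Finset.univ : Finset Bool) := by
        intro f hf
        obtain ⟨h1, h2, h3⟩ := mem_invs.1 hf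
        rw [Finset.mem_product]
        refine ⟨?_, Finset.mem_univ _⟩
        by_contra hb
        have h4 := h3 (f (a, true)).1 (f (a, true)).2 hb
        rw [Prod.mk.eta, h2] at h4
        rw [← h4] at hb
        exact hb ha
      rw [Finset.card_eq_sum_card_fiberwise hmaps]
      have hfib : ∀ p ∈ S ×ˢ (Finset.univ : Finset Bool),
          ((invs S).filter fun f => f (a, true) = p).card ≤ if p.1 = a then sB m else sB (m - 1) := by
        rintro ⟨b, s⟩ hbs
        rw [Finset.mem_product] at hbs
        have hb : b ∈ S := hbs.1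
        dsimp only
        split_ifs with hba
        · subst hba
          refine le_trans ?_ (ih m (by omega) (S.erase b) (by rw [Finset.card_erase_of_mem ha]; omega))
          refine Finset.card_le_card_of_injOn (fun f => reset (fun x => x = b) f) ?_ ?_
          · intro f hf
            have hf' := Finset.mem_filter.1 (Finset.mem_coe.1 hf)
            obtain ⟨h1, h2, h3⟩ := mem_invs.1 hf'.1
            refine reset_mem hf'.1 _ ?_ ?_
            · rintro x t rfl
              have h4 : f (x, true) = (x, s) := hf'.2
              cases t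
              · have h5 := h1 x true
                rw [h4] at h5
                rw [show (false : Bool) = !true from rfl, h5]
              · rw [h4]
            · intro x hx hx'
              by_contra hne
              exact hx' (Finset.mem_erase.2 ⟨hne, hx⟩)
          · intro f hf g hg hfg
            have hf' := Finset.mem_filter.1 (Finset.mem_coe.1 hf)
            have hg' := Finset.mem_filter.1 (Finset.mem_coe.1 hg)
            obtain ⟨h1, h2, h3⟩ := mem_invs.1 hf'.1
            obtain ⟨g1, g2, g3⟩ := mem_invs.1 hg'.1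
            refine reset_inj _ hfg ?_
            rintro x t rfl
            cases t
            · rw [show (false : Bool) = !true from rfl, h1, g1, hf'.2, hg'.2]
            · rw [hf'.2, hg'.2]
        · have hba' : b ∈ S.erase a := Finset.mem_erase.2 ⟨hba, hb⟩
          refine le_trans ?_ (ih (m - 1) (by omega) ((S.erase a).erase b)
            (by rw [Finset.card_erase_of_mem hba', Finset.card_erase_of_mem ha]; omega))
          have key : ∀ f ∈ invs S, f (a, true) = (b, s) → f (a, false) = (b, !s) ∧ f (b, s) = (a, true) ∧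
              f (b, !s) = (a, false) := by
            intro f hf h4
            obtain ⟨h1, h2, h3⟩ := mem_invs.1 hf
            have h5 : f (a, false) = (b, !s) := by
              rw [show (false : Bool) = !true from rfl, h1, h4]
            exact ⟨h5, by rw [← h4, h2], by rw [← h5, h2]⟩
          refine Finset.card_le_card_of_injOn (fun f => reset (fun x => x = a ∨ x = b) f) ?_ ?_
          · intro f hf
            have hf' := Finset.mem_filter.1 (Finset.mem_coe.1 hf)
            obtain ⟨k1, k2, k3⟩ := key f hf'.1 hf'.2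
            refine reset_mem hf'.1 _ ?_ ?_
            · rintro x t (rfl | rfl)
              · right
                cases t
                · rw [k1]
                · rw [hf'.2]
              · left
                by_cases hts : t = s
                · subst hts; rw [k2]
                · have : t = !s := by cases t <;> cases s <;> simp_all
                  rw [this, k3]
            · intro x hx hx'
              by_contra hne
              push Not at hne
              exact hx' (Finset.mem_erase.2 ⟨hne.2, Finset.mem_erase.2 ⟨hne.1, hx⟩⟩)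
          · intro f hf g hg hfg
            have hf' := Finset.mem_filter.1 (Finset.mem_coe.1 hf)
            have hg' := Finset.mem_filter.1 (Finset.mem_coe.1 hg)
            obtain ⟨k1, k2, k3⟩ := key f hf'.1 hf'.2
            obtain ⟨l1, l2, l3⟩ := key g hg'.1 hg'.2
            refine reset_inj _ hfg ?_
            rintro x t (rfl | rfl)
            · cases t
              · rw [k1, l1]
              · rw [hf'.2, hg'.2]
            · by_cases hts : t = s
              · subst hts; rw [k2, l2]
              · have : t = !s := by cases t <;> cases s <;> simp_all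
                rw [this, k3, l3]
      refine (Finset.sum_le_sum hfib).trans ?_
      rw [Finset.sum_product]
      have h6 : ∀ x ∈ S, (∑ y : Bool, if ((x, y) : α × Bool).1 = a then sB m else sB (m - 1)) =
          2 * (if x = a then sB m else sB (m - 1)) := by
        intro x _
        rw [Fintype.sum_bool, two_mul]
      rw [Finset.sum_congr rfl h6, ← Finset.mul_sum, ← Finset.add_sum_erase S _ ha, if_pos rfl]
      have h5 : ∑ x ∈ S.erase a, (if x = a then sB m else sB (m - 1)) = m * sB (m - 1) := by
        rw [Finset.sum_congr rfl (g := fun _ => sB (m - 1)) fun x hx => if_neg (Finset.ne_of_mem_erase hx),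
          Finset.sum_const, Finset.card_erase_of_mem ha, smul_eq_mul, hn]
        rfl
      rw [h5, sB_succ]
      apply le_of_eq
      ring

end Inv

/-! ### Sequences -/

/-- the contribution of a pair to the number of inversions -/
def inv2 (x y : ℤ) : ℕ := (if x < y then 1 else 0) + (if x + y < 0 then 1 else 0)

/-- the number of inversions of the first kind -/
def stI {n : ℕ} (x : Fin n → ℤ) : ℕ := ∑ i, ∑ j, if i < j then inv2 (x i) (x j) else 0

/-- the number of negative terms -/
def stN {n : ℕ} (x : Fin n → ℤ) : ℕ := ∑ i, if x i < 0 then 1 else 0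

theorem stI_cons {n : ℕ} (v : ℤ) (x : Fin n → ℤ) :
    stI (Fin.cons v x : Fin (n + 1) → ℤ) = ∑ j, inv2 v (x j) + stI x := by
  unfold stI
  rw [Fin.sum_univ_succ, Fin.sum_univ_succ]
  simp only [Fin.cons_zero, Fin.cons_succ, lt_irrefl, if_false, zero_add, Fin.succ_pos, if_true]
  congr 1
  refine Finset.sum_congr rfl fun i _ => ?_
  rw [Fin.sum_univ_succ]
  simp

theorem stN_cons {n : ℕ} (v : ℤ) (x : Fin n → ℤ) :
    stN (Fin.cons v x : Fin (n + 1) → ℤ) = (if v < 0 then 1 else 0) + stN x := by
  unfold stN
  rw [Fin.sum_univ_succ]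
  simp

/-- signed arrangements of the elements of `S` -/
def Sq (n : ℕ) (S : Finset ℕ) (x : Fin n → ℤ) : Prop :=
  Function.Injective (fun i => (x i).natAbs) ∧ ∀ i, (x i).natAbs ∈ S

/-- the values with absolute value in `S` -/
def vals (S : Finset ℕ) : Finset ℤ := S.image (fun m : ℕ => (m : ℤ)) ∪ S.image (fun m : ℕ => -(m : ℤ))

theorem mem_vals {S : Finset ℕ} {v : ℤ} : v ∈ vals S ↔ v.natAbs ∈ S := by
  unfold vals
  rw [Finset.mem_union, Finset.mem_image, Finset.mem_image]
  constructor
  · rintro (⟨m, hm, rfl⟩ | ⟨m, hm, rfl⟩)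
    · simpa using hm
    · simpa using hm
  · intro h
    rcases Int.natAbs_eq v with h1 | h1
    · exact Or.inl ⟨_, h, h1.symm⟩
    · exact Or.inr ⟨_, h, h1.symm⟩

/-- signed arrangements of the elements of `S` -/
noncomputable def sq (n : ℕ) (S : Finset ℕ) : Finset (Fin n → ℤ) :=
  (Fintype.piFinset fun _ => vals S).filter fun x => Function.Injective (fun i => (x i).natAbs)

theorem mem_sq {n : ℕ} {S : Finset ℕ} {x : Fin n → ℤ} : x ∈ sq n S ↔ Sq n S x := by
  unfold sq Sq
  rw [Finset.mem_filter, Fintype.mem_piFinset]
  simp only [mem_vals]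
  exact and_comm

theorem sq_cons {n : ℕ} {S : Finset ℕ} {v : ℤ} {x : Fin n → ℤ} :
    Sq (n + 1) S (Fin.cons v x : Fin (n + 1) → ℤ) ↔ v.natAbs ∈ S ∧ Sq n (S.erase v.natAbs) x := by
  unfold Sq
  constructor
  · rintro ⟨h1, h2⟩
    refine ⟨by simpa using h2 0, fun i j hij => ?_, fun i => ?_⟩
    · have := @h1 i.succ j.succ (by simpa using hij)
      exact Fin.succ_injective _ this
    · refine Finset.mem_erase.2 ⟨fun h => ?_, by simpa using h2 i.succ⟩
      have := @h1 i.succ 0 (by simpa using h)
      exact Fin.succ_ne_zero _ this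
  · rintro ⟨h1, h2, h3⟩
    refine ⟨?_, ?_⟩
    · intro i j
      refine Fin.cases ?_ (fun i => ?_) i <;> refine Fin.cases ?_ (fun j => ?_) j
      · intro _; rfl
      · intro h
        simp only [Fin.cons_zero, Fin.cons_succ] at h
        exact absurd h.symm (Finset.ne_of_mem_erase (h3 j))
      · intro h
        simp only [Fin.cons_zero, Fin.cons_succ] at h
        exact absurd h (Finset.ne_of_mem_erase (h3 i))
      · intro h
        simp only [Fin.cons_succ] at h
        rw [h2 h]
    · intro i
      refine Fin.cases ?_ (fun i => ?_) i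
      · simpa using h1
      · simpa using Finset.mem_of_mem_erase (h3 i)

theorem sum_sq_succ {n : ℕ} {S : Finset ℕ} (h0 : 0 ∉ S) (F : (Fin (n + 1) → ℤ) → ℕ) :
    ∑ x ∈ sq (n + 1) S, F x = ∑ m ∈ S, (∑ x ∈ sq n (S.erase m), F (Fin.cons (m : ℤ) x) +
      ∑ x ∈ sq n (S.erase m), F (Fin.cons (-(m : ℤ)) x)) := by
  have h1 : ∑ x ∈ sq (n + 1) S, F x = ∑ v ∈ vals S, ∑ x ∈ sq n (S.erase v.natAbs), F (Fin.cons v x) := by
    rw [Finset.sum_sigma']
    refine Finset.sum_bij' (fun x _ => (⟨x 0, Fin.tail x⟩ : Σ _ : ℤ, Fin n → ℤ))
      (fun p _ => (Fin.cons p.1 p.2 : Fin (n + 1) → ℤ)) ?_ ?_ ?_ ?_ ?_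
    · intro x hx
      rw [mem_sq, ← Fin.cons_self_tail x, sq_cons] at hx
      rw [Finset.mem_sigma, mem_vals]
      dsimp only
      rw [mem_sq]
      exact hx
    · rintro ⟨v, x⟩ hx
      rw [Finset.mem_sigma, mem_vals] at hx
      dsimp only at hx ⊢
      rw [mem_sq, sq_cons]
      exact ⟨hx.1, mem_sq.1 hx.2⟩
    · intro x _
      exact Fin.cons_self_tail x
    · rintro ⟨v, x⟩ _
      simp
    · intro x _
      dsimp only
      rw [Fin.cons_self_tail]
  rw [h1, vals, Finset.sum_union, Finset.sum_image, Finset.sum_image, ← Finset.sum_add_distrib]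
  · simp
  · intro a _ b _ h
    simpa using h
  · intro a _ b _ h
    simpa using h
  · rw [Finset.disjoint_left]
    intro v hv hv'
    rw [Finset.mem_image] at hv hv'
    obtain ⟨m, hm, rfl⟩ := hv
    obtain ⟨k, hk, e⟩ := hv'
    have : m = 0 := by omega
    subst this
    exact h0 hm

theorem sum_natAbs {n : ℕ} {S : Finset ℕ} {x : Fin n → ℤ} (hx : Sq n S x) (hS : S.card = n) (F : ℕ → ℕ) :
    ∑ j, F (x j).natAbs = ∑ s ∈ S, F s := by
  have h1 : Finset.univ.image (fun i => (x i).natAbs) = S := by
    apply Finset.eq_of_subset_of_card_le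
    · intro s hs
      rw [Finset.mem_image] at hs
      obtain ⟨i, -, rfl⟩ := hs
      exact hx.2 i
    · rw [Finset.card_image_of_injective _ hx.1, hS, Finset.card_univ, Fintype.card_fin]
  rw [← h1, Finset.sum_image (fun i _ j _ h => hx.1 h)]

theorem sum_inv2_pos {n : ℕ} {S : Finset ℕ} {m : ℕ} {x : Fin n → ℤ} (hx : Sq n (S.erase m) x)
    (hS : (S.erase m).card = n) : ∑ j, inv2 (m : ℤ) (x j) = (S.filter fun s => m < s).card := by
  have h1 : ∀ j, inv2 (m : ℤ) (x j) = if m < (x j).natAbs then 1 else 0 := by
    intro j
    have := Finset.ne_of_mem_erase (hx.2 j)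
    unfold inv2
    split_ifs <;> omega
  rw [Finset.sum_congr rfl fun j _ => h1 j, sum_natAbs hx hS (fun s => if m < s then 1 else 0),
    Finset.card_filter]
  by_cases hm : m ∈ S
  · rw [← Finset.add_sum_erase S _ hm, if_neg (lt_irrefl m), zero_add]
  · rw [Finset.erase_eq_of_notMem hm]

theorem sum_inv2_neg {n : ℕ} {S : Finset ℕ} {m : ℕ} {x : Fin n → ℤ} (hx : Sq n (S.erase m) x)
    (hS : (S.erase m).card = n) : ∑ j, inv2 (-(m : ℤ)) (x j) = n + (S.filter fun s => s < m).card := by
  have h1 : ∀ j, inv2 (-(m : ℤ)) (x j) = 1 + if (x j).natAbs < m then 1 else 0 := by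
    intro j
    have := Finset.ne_of_mem_erase (hx.2 j)
    unfold inv2
    split_ifs <;> omega
  rw [Finset.sum_congr rfl fun j _ => h1 j, Finset.sum_add_distrib,
    sum_natAbs hx hS (fun s => if s < m then 1 else 0), Finset.card_filter]
  congr 1
  · simp
  · by_cases hm : m ∈ S
    · rw [← Finset.add_sum_erase S _ hm, if_neg (lt_irrefl m), zero_add]
    · rw [Finset.erase_eq_of_notMem hm]

theorem sum_rank (S : Finset ℕ) (F : ℕ → ℕ) :
    ∑ m ∈ S, F (S.filter fun s => s < m).card = ∑ j ∈ Finset.range S.card, F j := by
  induction S using Finset.induction_on_max with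
  | empty => simp
  | insert a S ha ih =>
    have haS : a ∉ S := fun h => lt_irrefl _ (ha a h)
    rw [Finset.sum_insert haS, Finset.card_insert_of_notMem haS, Finset.sum_range_succ, ← ih, add_comm]
    congr 1
    · refine Finset.sum_congr rfl fun m hm => ?_
      congr 2
      rw [Finset.filter_insert, if_neg (by have := ha m hm; omega)]
    · congr 1
      rw [Finset.filter_insert, if_neg (lt_irrefl a), Finset.filter_true_of_mem ha]

theorem sum_rank' (S : Finset ℕ) (F : ℕ → ℕ) :
    ∑ m ∈ S, F (S.filter fun s => m < s).card = ∑ j ∈ Finset.range S.card, F j := by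
  induction S using Finset.induction_on_min with
  | empty => simp
  | insert a S ha ih =>
    have haS : a ∉ S := fun h => lt_irrefl _ (ha a h)
    rw [Finset.sum_insert haS, Finset.card_insert_of_notMem haS, Finset.sum_range_succ, ← ih, add_comm]
    congr 1
    · refine Finset.sum_congr rfl fun m hm => ?_
      congr 2
      rw [Finset.filter_insert, if_neg (by have := ha m hm; omega)]
    · congr 1
      rw [Finset.filter_insert, if_neg (lt_irrefl a), Finset.filter_true_of_mem ha]

/-- **The weight enumerator of signed arrangements** -/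
theorem sum_sq (a b : ℕ) : ∀ (n : ℕ) (S : Finset ℕ), 0 ∉ S → S.card = n →
    ∑ x ∈ sq n S, a ^ stI x * b ^ stN x = NB a b n := by
  intro n
  induction n with
  | zero =>
    intro S _ hS
    have h1 : sq 0 S = {Fin.elim0} := by
      ext x
      rw [mem_sq, Finset.mem_singleton]
      constructor
      · intro _; exact funext fun i => i.elim0
      · intro _; exact ⟨fun i => i.elim0, fun i => i.elim0⟩
    rw [h1, Finset.sum_singleton]
    simp [stI, stN, NB]
  | succ n ih =>
    intro S h0 hS
    rw [sum_sq_succ h0]
    have h1 : ∀ m ∈ S, (∑ x ∈ sq n (S.erase m), a ^ stI (Fin.cons (m : ℤ) x : Fin (n + 1) → ℤ) *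
          b ^ stN (Fin.cons (m : ℤ) x : Fin (n + 1) → ℤ) +
        ∑ x ∈ sq n (S.erase m), a ^ stI (Fin.cons (-(m : ℤ)) x : Fin (n + 1) → ℤ) *
          b ^ stN (Fin.cons (-(m : ℤ)) x : Fin (n + 1) → ℤ)) =
        (a ^ (S.filter fun s => m < s).card + b * a ^ n * a ^ (S.filter fun s => s < m).card) * NB a b n := by
      intro m hm
      have hc : (S.erase m).card = n := by rw [Finset.card_erase_of_mem hm, hS]; rfl
      have hm0 : m ≠ 0 := fun h => h0 (h ▸ hm)
      have h2 := ih (S.erase m) (fun h => h0 (Finset.mem_of_mem_erase h)) hc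
      rw [add_mul, ← h2, Finset.mul_sum, Finset.mul_sum]
      congr 1
      · refine Finset.sum_congr rfl fun x hx => ?_
        rw [stI_cons, stN_cons, sum_inv2_pos (mem_sq.1 hx) hc, if_neg (by omega), zero_add, pow_add]
        ring
      · refine Finset.sum_congr rfl fun x hx => ?_
        rw [stI_cons, stN_cons, sum_inv2_neg (mem_sq.1 hx) hc, if_pos (by omega), pow_add, pow_add, pow_add]
        ring
    rw [Finset.sum_congr rfl h1, ← Finset.sum_mul, Finset.sum_add_distrib, ← Finset.mul_sum,
      sum_rank' S (fun j => a ^ j), sum_rank S (fun j => a ^ j), hS]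
    unfold NB
    rw [Finset.prod_range_succ]
    ring

end Cfsg.Agent.H461.SgnCount
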