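import Mathlib
import Cfsg.Agent.H461.SgnCount
import Cfsg.Agent.H383.Cube.Num
import Cfsg.Agent.Nodes.TypeC
import Cfsg.Agent.KFacts.RgdDiag

/-!
# The Coxeter group of type `B_n`

* `act cs` : the action on the signed indices, `act_injective`;
* `Phi cs` : the bijection with the signed arrangements of `1, …, n` (`phi_injective`, `exists_phi`);
* `eq_stat` : a multiplicative function along reduced words is the statistic `a ^ stI * b ^ stN`;
* `card_tw_B`, `sum_B` : the bounds for twisted involutions and the two-parameter Poincaré polynomial.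
-/

set_option autoImplicit false

namespace Cfsg.Agent.H461.CoxB

open CoxeterSystem Cfsg.Agent.ChevalleyStructure.CoxeterGeom Cfsg.Agent.Tits.Roots Cfsg.Agent.Nodes.TypeC
  Cfsg.Agent.H383.Cube Cfsg.Agent.KFacts.RgdDiag Cfsg.Agent.H461.SgnCount

variable {n : ℕ} {W : Type*} [Group W] (cs : CoxeterSystem (CoxeterMatrix.B n) W)

/-- the simple reflection as a permutation of the signed indices -/
def sgP (i : Fin n) : Equiv.Perm (Fin n × Bool) := ⟨sg i, sg i, sg_sg i, sg_sg i⟩

theorem sgP_apply (i : Fin n) (x : Fin n × Bool) : sgP i x = sg i x := rfl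

theorem liftable : (CoxeterMatrix.B n).IsLiftable (sgP (n := n)) := by
  intro i j
  have h1 : ∀ (m : ℕ) (a : Fin n × Bool), ((sgP i * sgP j) ^ m) a = (fun y => sg i (sg j y))^[m] a := by
    intro m
    induction m with
    | zero => intro a; rfl
    | succ m ih =>
      intro a
      rw [pow_succ', Function.iterate_succ_apply', ← ih]
      rfl
  ext1 a
  rw [h1, sg_braid]
  rfl

/-- the action on the signed indices -/
noncomputable def act : W →* Equiv.Perm (Fin n × Bool) := cs.lift ⟨sgP, liftable⟩

theorem act_simple (i : Fin n) : act cs (cs.simple i) = sgP i := cs.lift_apply_simple _ i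

theorem act_mul_simple (w : W) (i : Fin n) (x : Fin n × Bool) : act cs (w * cs.simple i) x = act cs w (sg i x) := by
  rw [map_mul, act_simple]; rfl

theorem act_ng (w : W) (x : Fin n × Bool) : act cs w (ng x) = ng (act cs w x) := by
  induction w using cs.simple_induction_left with
  | one => rw [map_one]; rfl
  | mul_simple_left w j ih =>
    rw [map_mul, act_simple, Equiv.Perm.mul_apply, ih, sgP_apply, sg_ng]
    rfl

theorem ee_act (w : W) {x : Fin n → ℤ} {a b : Fin n × Bool} (e : ee x = wt a + wt b) :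
    ee (rep cs (isCartan n) w x) = wt (act cs w a) + wt (act cs w b) := by
  induction w using cs.simple_induction_left with
  | one => rw [map_one, map_one, Module.End.one_apply]; exact e
  | mul_simple_left w j ih =>
    rw [rep_mul_apply, rep_simple, ee_refl_of ih, map_mul, act_simple]
    rfl

theorem act_injective : Function.Injective (act cs) := by
  intro w v hwv
  apply rep_injective cs (isCartan n)
  refine LinearMap.ext fun x => ?_
  have h1 : ∀ i, rep cs (isCartan n) w (sr i) = rep cs (isCartan n) v (sr i) := fun i =>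
    ee_injective (by rw [ee_act cs w (ee_sr i), ee_act cs v (ee_sr i), hwv])
  have h2 : x = ∑ k, x k • sr k := by
    funext k
    simp [sr, Finset.sum_apply, Pi.single_apply]
  rw [h2, map_sum, map_sum]
  exact Finset.sum_congr rfl fun k _ => by rw [map_smul, map_smul, h1]

theorem act_fst (w : W) {x y : Fin n × Bool} (h : (act cs w x).1 = (act cs w y).1) : x.1 = y.1 := by
  have h1 : act cs w x = act cs w y ∨ act cs w x = ng (act cs w y) := by
    by_cases h2 : (act cs w x).2 = (act cs w y).2
    · exact Or.inl (Prod.ext h h2)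
    · refine Or.inr (Prod.ext h ?_)
      rw [ng_snd]
      revert h2
      cases (act cs w x).2 <;> cases (act cs w y).2 <;> simp
  rcases h1 with h1 | h1
  · rw [(act cs w).injective h1]
  · rw [← act_ng] at h1
    rw [(act cs w).injective h1]
    rfl

/-- the value of a weight -/
def Lv (u : Fin n → ℤ) : ℤ := ∑ k : Fin n, ((n : ℤ) - (k : ℕ)) * u k

theorem Lv_add (u v : Fin n → ℤ) : Lv (u + v) = Lv u + Lv v := by
  unfold Lv
  rw [← Finset.sum_add_distrib]
  exact Finset.sum_congr rfl fun k _ => by rw [Pi.add_apply]; ring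

theorem Lv_neg (u : Fin n → ℤ) : Lv (-u) = -Lv u := by
  unfold Lv
  rw [← Finset.sum_neg_distrib]
  exact Finset.sum_congr rfl fun k _ => by rw [Pi.neg_apply]; ring

theorem Lv_wt (x : Fin n × Bool) : Lv (wt x) = if x.2 then (n : ℤ) - (x.1 : ℕ) else -((n : ℤ) - (x.1 : ℕ)) := by
  unfold Lv
  rw [Finset.sum_eq_single x.1]
  · rw [wt_apply, if_pos rfl]
    split_ifs <;> ring
  · intro k _ hk
    rw [wt_apply, if_neg hk, mul_zero]
  · intro h
    exact absurd (Finset.mem_univ _) h

theorem Lv_bt_pos (i : Fin n) : 0 < Lv (bt i) := by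
  rw [bt, Lv_add, Lv_wt, Lv_wt, nx]
  have := i.2
  split_ifs <;> simp_all

theorem Lv_ee (x : Fin n → ℤ) : Lv (ee x) = ∑ j, x j * Lv (bt j) := by
  unfold ee Lv
  simp only [Finset.sum_apply, Pi.smul_apply, smul_eq_mul, Finset.mul_sum]
  rw [Finset.sum_comm]
  exact Finset.sum_congr rfl fun j _ => Finset.sum_congr rfl fun k _ => by ring

theorem Lv_ee_pos {x : Fin n → ℤ} (h : 0 ≤ x) (h0 : x ≠ 0) : 0 < Lv (ee x) := by
  rw [Lv_ee]
  obtain ⟨j, hj⟩ : ∃ j, x j ≠ 0 := by
    by_contra hc
    push Not at hc
    exact h0 (funext hc)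
  refine Finset.sum_pos' (fun k _ => mul_nonneg (h k) (Lv_bt_pos k).le) ⟨j, Finset.mem_univ j, ?_⟩
  exact mul_pos (lt_of_le_of_ne (h j) (Ne.symm hj)) (Lv_bt_pos j)

/-- the signed arrangement of a Weyl group element -/
noncomputable def Phi (w : W) (i : Fin n) : ℤ := Lv (wt (act cs w (i, true)))

theorem phi_one (i : Fin n) : Phi cs 1 i = (n : ℤ) - (i : ℕ) := by
  unfold Phi
  rw [map_one, Equiv.Perm.one_apply, Lv_wt]
  simp

theorem lv_act_false (w : W) (i : Fin n) : Lv (wt (act cs w (i, false))) = -Phi cs w i := by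
  have : ((i, false) : Fin n × Bool) = ng (i, true) := rfl
  rw [this, act_ng, wt_ng, Lv_neg]
  rfl

theorem phi_mul {i : Fin n} (h : (i : ℕ) + 1 < n) (w : W) :
    Phi cs (w * cs.simple i) = Phi cs w ∘ Equiv.swap i ⟨i + 1, h⟩ := by
  funext j
  unfold Phi
  rw [Function.comp_apply, act_mul_simple]
  have h1 : sg i (j, true) = (Equiv.swap i ⟨i + 1, h⟩ j, true) := by
    unfold sg
    rw [dif_pos h, Equiv.swap_apply_def]
    dsimp only
    split_ifs <;> rfl
  rw [h1]

theorem phi_mul_last {i : Fin n} (h : ¬ (i : ℕ) + 1 < n) (w : W) :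
    Phi cs (w * cs.simple i) = Function.update (Phi cs w) i (-Phi cs w i) := by
  funext j
  by_cases hj : j = i
  · subst hj
    rw [Function.update_self, ← lv_act_false]
    unfold Phi
    rw [act_mul_simple, sg_last h]
    rfl
  · rw [Function.update_of_ne hj]
    unfold Phi
    rw [act_mul_simple]
    have h1 : sg i (j, true) = (j, true) := by
      unfold sg
      rw [dif_neg h, if_neg hj]
    rw [h1]

theorem phi_desc {i : Fin n} (h : (i : ℕ) + 1 < n) {w : W} (hw : cs.length w < cs.length (w * cs.simple i)) :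
    Phi cs w ⟨i + 1, h⟩ < Phi cs w i := by
  have h1 : 0 ≤ rep cs (isCartan n) w (sr i) := nonneg_of_lt cs (isCartan n) w i hw
  have h2 := Lv_ee_pos h1 ((isRoot_sr cs (isCartan n) i).act w).ne_zero
  rw [ee_act cs w (ee_sr i), Lv_add] at h2
  have h3 : nx i = (⟨i + 1, h⟩, false) := by
    unfold nx
    rw [dif_pos h]
  rw [h3, lv_act_false] at h2
  have : Lv (wt (act cs w (i, true))) = Phi cs w i := rfl
  omega

theorem phi_pos {i : Fin n} (h : ¬ (i : ℕ) + 1 < n) {w : W} (hw : cs.length w < cs.length (w * cs.simple i)) :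
    0 < Phi cs w i := by
  have h1 : 0 ≤ rep cs (isCartan n) w (sr i) := nonneg_of_lt cs (isCartan n) w i hw
  have h2 := Lv_ee_pos h1 ((isRoot_sr cs (isCartan n) i).act w).ne_zero
  rw [ee_act cs w (ee_sr i), Lv_add] at h2
  have h3 : nx i = (i, true) := by
    unfold nx
    rw [dif_neg h]
  rw [h3] at h2
  have : Lv (wt (act cs w (i, true))) = Phi cs w i := rfl
  omega

theorem natAbs_phi (w : W) (i : Fin n) : (Phi cs w i).natAbs = n - ((act cs w (i, true)).1 : ℕ) := by
  unfold Phi
  rw [Lv_wt]
  have := (act cs w (i, true)).1.2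
  split_ifs <;> omega

theorem phi_sq (w : W) : Sq n (Finset.Icc 1 n) (Phi cs w) := by
  constructor
  · intro i j hij
    dsimp only at hij
    rw [natAbs_phi, natAbs_phi] at hij
    have h1 := (act cs w (i, true)).1.2
    have h2 := (act cs w (j, true)).1.2
    exact act_fst cs w (x := (i, true)) (y := (j, true)) (Fin.ext (by omega))
  · intro i
    rw [natAbs_phi, Finset.mem_Icc]
    have h1 := (act cs w (i, true)).1.2
    omega

theorem lv_wt_injective {x y : Fin n × Bool} (h : Lv (wt x) = Lv (wt y)) : x = y := by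
  rw [Lv_wt, Lv_wt] at h
  have h1 := x.1.2
  have h2 := y.1.2
  obtain ⟨i, s⟩ := x
  obtain ⟨j, t⟩ := y
  dsimp only at h h1 h2
  cases s <;> cases t <;> simp only [if_true, Bool.false_eq_true, if_false] at h
  · have : i = j := Fin.ext (by omega)
    rw [this]
  · omega
  · omega
  · have : i = j := Fin.ext (by omega)
    rw [this]

theorem phi_injective : Function.Injective (Phi cs) := by
  intro w v h
  apply act_injective cs
  ext1 ⟨i, s⟩
  cases s
  · apply lv_wt_injective
    rw [lv_act_false, lv_act_false, h]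
  · exact lv_wt_injective (congrFun h i)

/-! ### The statistics -/

theorem stN_comp (x : Fin n → ℤ) (τ : Equiv.Perm (Fin n)) : stN (x ∘ τ) = stN x := by
  unfold stN
  exact Equiv.sum_comp τ fun i => if x i < 0 then 1 else 0

theorem stI_swap {i : Fin n} (h : (i : ℕ) + 1 < n) {x : Fin n → ℤ} (hx : x ⟨i + 1, h⟩ < x i) :
    stI (x ∘ Equiv.swap i ⟨i + 1, h⟩) = stI x + 1 := by
  set i' : Fin n := ⟨i + 1, h⟩ with hi'
  set τ : Equiv.Perm (Fin n) := Equiv.swap i i' with hτ
  have hττ : ∀ k, τ (τ k) = k := fun k => Equiv.swap_apply_self _ _ _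
  have h1 : stI (x ∘ τ) = ∑ k, ∑ l, if τ k < τ l then inv2 (x k) (x l) else 0 := by
    unfold stI
    rw [← Equiv.sum_comp τ]
    refine Finset.sum_congr rfl fun k _ => ?_
    rw [← Equiv.sum_comp τ]
    refine Finset.sum_congr rfl fun l _ => ?_
    simp only [Function.comp_apply, hττ]
  have h2 : ∀ c : Fin n → Fin n → ℕ, (∑ k, ∑ l, if τ k < τ l then c k l else 0) + c i i' =
      (∑ k, ∑ l, if k < l then c k l else 0) + c i' i := by
    intro c
    have e1 : c i i' = ∑ k, ∑ l, if k = i ∧ l = i' then c k l else 0 := by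
      rw [Finset.sum_eq_single i, Finset.sum_eq_single i']
      · simp
      · intro b _ hb; simp [hb]
      · simp
      · intro b _ hb; simp [hb]
      · simp
    have e2 : c i' i = ∑ k, ∑ l, if k = i' ∧ l = i then c k l else 0 := by
      rw [Finset.sum_eq_single i', Finset.sum_eq_single i]
      · simp
      · intro b _ hb; simp [hb]
      · simp
      · intro b _ hb; simp [hb]
      · simp
    rw [e1, e2, ← Finset.sum_add_distrib, ← Finset.sum_add_distrib]
    refine Finset.sum_congr rfl fun k _ => ?_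
    rw [← Finset.sum_add_distrib, ← Finset.sum_add_distrib]
    refine Finset.sum_congr rfl fun l _ => ?_
    have hii : (i' : ℕ) = i + 1 := rfl
    rw [hτ, Equiv.swap_apply_def, Equiv.swap_apply_def]
    simp only [Fin.ext_iff, Fin.lt_def]
    split_ifs <;> omega
  have h3 := h2 fun k l => inv2 (x k) (x l)
  rw [← h1] at h3
  have h4 : inv2 (x i') (x i) = inv2 (x i) (x i') + 1 := by
    unfold inv2
    split_ifs <;> omega
  have h5 : stI x = ∑ k, ∑ l, if k < l then inv2 (x k) (x l) else 0 := rfl
  rw [← h5] at h3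
  omega

theorem stI_last {i : Fin n} (h : ¬ (i : ℕ) + 1 < n) (x : Fin n → ℤ) :
    stI (Function.update x i (-x i)) = stI x := by
  unfold stI
  refine Finset.sum_congr rfl fun k _ => Finset.sum_congr rfl fun l _ => ?_
  split_ifs with hkl
  · have hk : k ≠ i := by
      rintro rfl
      have := l.2
      rw [Fin.lt_def] at hkl
      omega
    rw [Function.update_of_ne hk]
    by_cases hl : l = i
    · subst hl
      rw [Function.update_self]
      unfold inv2
      split_ifs <;> omega
    · rw [Function.update_of_ne hl]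
  · rfl

theorem stN_last {i : Fin n} {x : Fin n → ℤ} (hx : 0 < x i) :
    stN (Function.update x i (-x i)) = stN x + 1 := by
  unfold stN
  rw [← Finset.add_sum_erase _ _ (Finset.mem_univ i), ← Finset.add_sum_erase Finset.univ (fun j => if x j < 0 then 1 else 0)
    (Finset.mem_univ i), Function.update_self, if_pos (by omega), if_neg (by omega)]
  have : ∀ j ∈ Finset.univ.erase i, (if Function.update x i (-x i) j < 0 then 1 else 0) = if x j < 0 then 1 else 0 := by
    intro j hj
    rw [Function.update_of_ne (Finset.ne_of_mem_erase hj)]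
  rw [Finset.sum_congr rfl this]
  ring

theorem stI_one : stI (fun i : Fin n => (n : ℤ) - (i : ℕ)) = 0 := by
  unfold stI
  refine Finset.sum_eq_zero fun k _ => Finset.sum_eq_zero fun l _ => ?_
  split_ifs with hkl
  · rw [Fin.lt_def] at hkl
    have := l.2
    unfold inv2
    dsimp only
    rw [if_neg (by omega), if_neg (by omega)]
    rfl
  · rfl

theorem stN_one : stN (fun i : Fin n => (n : ℤ) - (i : ℕ)) = 0 := by
  unfold stN
  refine Finset.sum_eq_zero fun k _ => ?_
  have := k.2
  dsimp only
  rw [if_neg (by omega)]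

theorem eq_stat {f : W → ℕ} {a b : ℕ} (h1 : f 1 = 1)
    (hf : ∀ (w : W) (i : Fin n), cs.length (w * cs.simple i) = cs.length w + 1 →
      f (w * cs.simple i) = f w * (if (i : ℕ) + 1 < n then a else b)) (w : W) :
    f w = a ^ stI (Phi cs w) * b ^ stN (Phi cs w) := by
  induction hn : cs.length w using Nat.strong_induction_on generalizing w with
  | _ m ih =>
    by_cases hw1 : w = 1
    · subst hw1
      have h2 : Phi cs 1 = fun i : Fin n => (n : ℤ) - (i : ℕ) := funext (phi_one cs)
      rw [h1, h2, stI_one, stN_one, pow_zero, pow_zero, mul_one]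
    obtain ⟨j, hj⟩ := cs.exists_rightDescent_of_ne_one hw1
    have hj' : cs.length (w * cs.simple j) < cs.length w := hj
    have h2 := cs.length_mul_simple w j
    obtain ⟨v, hv⟩ : ∃ v, v = w * cs.simple j := ⟨_, rfl⟩
    obtain rfl : w = v * cs.simple j := by rw [hv, cs.simple_mul_simple_cancel_right]
    rw [← hv] at hj' h2
    have h3 : cs.length (v * cs.simple j) = cs.length v + 1 := by omega
    have h4 := ih (cs.length v) (by omega) v rfl
    rw [hf v j h3, h4]
    split_ifs with hlt
    · rw [phi_mul cs hlt, stI_swap hlt (phi_desc cs hlt (by omega)), stN_comp, pow_succ]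
      ring
    · rw [phi_mul_last cs hlt, stI_last hlt, stN_last (phi_pos cs hlt (by omega)), pow_succ]
      ring

theorem eq_one_of_dec {x : Fin n → ℤ} (hx : Sq n (Finset.Icc 1 n) x)
    (h1 : ∀ (i : Fin n) (h : (i : ℕ) + 1 < n), x ⟨i + 1, h⟩ < x i) (h2 : ∀ i : Fin n, ¬ (i : ℕ) + 1 < n → 0 < x i) :
    x = fun i : Fin n => (n : ℤ) - (i : ℕ) := by
  have hlow : ∀ (d : ℕ) (i : Fin n), (i : ℕ) + d + 1 = n → (d : ℤ) + 1 ≤ x i := by
    intro d
    induction d with
    | zero =>
      intro i hi
      have := h2 i (by omega)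
      push_cast
      omega
    | succ d ih =>
      intro i hi
      have h3 := h1 i (by omega)
      have h4 := ih ⟨i + 1, by omega⟩ (by simp; omega)
      push_cast
      omega
  have hup : ∀ (k : ℕ) (hk : k < n), x ⟨k, hk⟩ ≤ (n : ℤ) - k := by
    intro k
    induction k with
    | zero =>
      intro hk
      have := Finset.mem_Icc.1 (hx.2 ⟨0, hk⟩)
      push_cast
      omega
    | succ k ih =>
      intro hk
      have h3 := h1 ⟨k, by omega⟩ hk
      have h4 := ih (by omega)
      dsimp only at h3
      push_cast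
      omega
  funext i
  have h3 := hlow (n - 1 - i) i (by have := i.2; omega)
  have h4 := hup i i.2
  have := i.2
  rw [Fin.eta] at h4
  omega

theorem exists_phi {x : Fin n → ℤ} (hx : Sq n (Finset.Icc 1 n) x) : ∃ w : W, Phi cs w = x := by
  induction hm : stI x + stN x using Nat.strong_induction_on generalizing x with
  | _ m ih =>
    by_cases hd : ∃ (i : Fin n) (h : (i : ℕ) + 1 < n), x i < x ⟨i + 1, h⟩
    · obtain ⟨i, h, hlt⟩ := hd
      set x' := x ∘ Equiv.swap i ⟨i + 1, h⟩ with hx'
      have hxx : x = x' ∘ Equiv.swap i ⟨i + 1, h⟩ := by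
        funext k
        rw [hx', Function.comp_apply, Function.comp_apply, Equiv.swap_apply_self]
      have h1 : x' ⟨i + 1, h⟩ < x' i := by
        rw [hx', Function.comp_apply, Function.comp_apply, Equiv.swap_apply_left, Equiv.swap_apply_right]
        exact hlt
      have h2 := stI_swap h h1
      rw [← hxx] at h2
      have h3 : stN x' = stN x := stN_comp x _
      have h4 : Sq n (Finset.Icc 1 n) x' :=
        ⟨fun k l hkl => (Equiv.swap i ⟨i + 1, h⟩).injective (hx.1 hkl), fun k => hx.2 _⟩
      obtain ⟨w, hw⟩ := ih _ (by omega) h4 rfl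
      exact ⟨w * cs.simple i, by rw [phi_mul cs h, hw, ← hxx]⟩
    · by_cases hl : ∃ i : Fin n, ¬ (i : ℕ) + 1 < n ∧ x i < 0
      · obtain ⟨i, h, hlt⟩ := hl
        set x' := Function.update x i (-x i) with hx'
        have hxi : x' i = -x i := by rw [hx', Function.update_self]
        have hxx : x = Function.update x' i (-x' i) := by
          rw [hxi, neg_neg, hx', Function.update_idem, Function.update_eq_self]
        have h2 := stI_last h x'
        have h3 := stN_last (x := x') (i := i) (by omega)
        rw [← hxx] at h2 h3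
        have hab : ∀ k, (x' k).natAbs = (x k).natAbs := by
          intro k
          by_cases hk : k = i
          · subst hk; rw [hxi, Int.natAbs_neg]
          · rw [hx', Function.update_of_ne hk]
        have h4 : Sq n (Finset.Icc 1 n) x' := by
          refine ⟨fun k l hkl => hx.1 ?_, fun k => ?_⟩
          · dsimp only at hkl ⊢
            rwa [hab, hab] at hkl
          · rw [hab]
            exact hx.2 k
        obtain ⟨w, hw⟩ := ih _ (by omega) h4 rfl
        exact ⟨w * cs.simple i, by rw [phi_mul_last cs h, hw, ← hxx]⟩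
      · push Not at hd hl
        refine ⟨1, ?_⟩
        rw [eq_one_of_dec hx ?_ ?_]
        · exact funext (phi_one cs)
        · intro i h
          refine lt_of_le_of_ne (hd i h) fun e => ?_
          have := hx.1 (a₁ := ⟨i + 1, h⟩) (a₂ := i) (by dsimp only; rw [e])
          rw [Fin.ext_iff] at this
          simp at this
        · intro i h
          have h1 := hl i (by omega)
          have h2 := Finset.mem_Icc.1 (hx.2 i)
          omega

/-- **The two-parameter Poincaré polynomial of type `B_n`** -/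
theorem sum_B {n : ℕ} {W : Type*} [Group W] [Fintype W] (cs : CoxeterSystem (CoxeterMatrix.B n) W) (a b : ℕ)
    (f : W → ℕ) (h1 : f 1 = 1)
    (hf : ∀ (w : W) (i : Fin n), cs.length (w * cs.simple i) = cs.length w + 1 →
      f (w * cs.simple i) = f w * (if (i : ℕ) + 1 < n then a else b)) :
    ∑ w, f w = NB a b n := by
  rw [← sum_sq a b n (Finset.Icc 1 n) (by simp) (by simp)]
  refine Finset.sum_nbij (Phi cs) ?_ ?_ ?_ ?_
  · intro w _
    exact mem_sq.2 (phi_sq cs w)
  · intro w _ v _ h
    exact phi_injective cs h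
  · intro x hx
    obtain ⟨w, hw⟩ := exists_phi cs (mem_sq.1 (Finset.mem_coe.1 hx))
    exact ⟨w, Finset.mem_coe.2 (Finset.mem_univ w), hw⟩
  · intro w _
    exact eq_stat cs h1 hf w

/-! ### Twisted involutions -/

theorem B_apply (i j : Fin n) : CoxeterMatrix.B n i j = if i = j then 1 else
    if (i : ℕ) = n - 1 ∧ (j : ℕ) = n - 2 ∨ (j : ℕ) = n - 1 ∧ (i : ℕ) = n - 2
        then 4 else (if (j : ℕ) + 1 = i ∨ (i : ℕ) + 1 = j then 3 else 2) := rfl

theorem perm_eq_one (hn : 3 ≤ n) {σ : Equiv.Perm (Fin n)}
    (hσ : ∀ i j, CoxeterMatrix.B n (σ i) (σ j) = CoxeterMatrix.B n i j) : σ = 1 := by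
  have hB : ∀ i j : Fin n, i ≠ j → CoxeterMatrix.B n i j =
      if (i : ℕ) = n - 1 ∧ (j : ℕ) = n - 2 ∨ (j : ℕ) = n - 1 ∧ (i : ℕ) = n - 2
        then 4 else (if (j : ℕ) + 1 = i ∨ (i : ℕ) + 1 = j then 3 else 2) := by
    intro i j hij
    rw [B_apply, if_neg hij]
  have hB' : ∀ i j : Fin n, i ≠ j →
      (if (σ i : ℕ) = n - 1 ∧ (σ j : ℕ) = n - 2 ∨ (σ j : ℕ) = n - 1 ∧ (σ i : ℕ) = n - 2
        then 4 else (if (σ j : ℕ) + 1 = σ i ∨ (σ i : ℕ) + 1 = σ j then 3 else 2)) =
      if (i : ℕ) = n - 1 ∧ (j : ℕ) = n - 2 ∨ (j : ℕ) = n - 1 ∧ (i : ℕ) = n - 2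
        then 4 else (if (j : ℕ) + 1 = i ∨ (i : ℕ) + 1 = j then 3 else 2) := by
    intro i j hij
    rw [← hB i j hij, ← hσ, hB _ _ (fun h => hij (σ.injective h))]
  obtain ⟨m, rfl⟩ : ∃ m, n = m + 3 := ⟨n - 3, by omega⟩
  have hne : ∀ i j : Fin (m + 3), i ≠ j → (σ i : ℕ) ≠ σ j := fun i j hij h => hij (σ.injective (Fin.ext h))
  have k1 := hB' ⟨m + 2, by omega⟩ ⟨m + 1, by omega⟩ (by simp [Fin.ext_iff])
  have k2 := hB' ⟨m + 1, by omega⟩ ⟨m, by omega⟩ (by simp [Fin.ext_iff])
  have k3 := (σ ⟨m + 2, by omega⟩).2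
  have k4 := (σ ⟨m + 1, by omega⟩).2
  have k5 := (σ ⟨m, by omega⟩).2
  dsimp only at k1 k2
  rw [if_pos (c := m + 2 = m + 3 - 1 ∧ m + 1 = m + 3 - 2 ∨ m + 1 = m + 3 - 1 ∧ m + 2 = m + 3 - 2) (by omega)] at k1
  rw [if_neg (c := m + 1 = m + 3 - 1 ∧ m = m + 3 - 2 ∨ m = m + 3 - 1 ∧ m + 1 = m + 3 - 2) (by omega),
    if_pos (c := m + 1 = m + 1 ∨ m + 1 + 1 = m) (by omega)] at k2
  have a1 : (σ ⟨m + 2, by omega⟩ : ℕ) = m + 2 ∧ (σ ⟨m + 1, by omega⟩ : ℕ) = m + 1 := by
    split_ifs at k1 k2 <;> omega
  have key : ∀ d : ℕ, ∀ i : Fin (m + 3), (i : ℕ) + d + 1 = m + 3 → (σ i : ℕ) = i := by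
    intro d
    induction d using Nat.strong_induction_on with
    | _ d ih =>
      intro i hi
      rcases Nat.lt_or_ge d 2 with hd | hd
      · rcases Nat.eq_zero_or_pos d with h0 | h0
        · have : i = ⟨m + 2, by omega⟩ := Fin.ext (by simp; omega)
          rw [this]
          exact a1.1
        · have : i = ⟨m + 1, by omega⟩ := Fin.ext (by simp; omega)
          rw [this]
          exact a1.2
      · have b1 := ih (d - 1) (by omega) ⟨i + 1, by omega⟩ (by simp; omega)
        have b2 := ih (d - 2) (by omega) ⟨i + 2, by omega⟩ (by simp; omega)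
        have b3 := hB' i ⟨i + 1, by omega⟩ (by simp [Fin.ext_iff])
        have b4 := hne i ⟨i + 2, by omega⟩ (by simp [Fin.ext_iff])
        have b5 := (σ i).2
        dsimp only at b1 b2 b3 b4
        rw [b1] at b3
        rw [b2] at b4
        rw [if_neg (c := (i : ℕ) = m + 3 - 1 ∧ (i : ℕ) + 1 = m + 3 - 2 ∨ (i : ℕ) + 1 = m + 3 - 1 ∧ (i : ℕ) = m + 3 - 2)
          (by omega), if_pos (c := (i : ℕ) + 1 + 1 = i ∨ (i : ℕ) + 1 = (i : ℕ) + 1) (by omega)] at b3
        split_ifs at b3 <;> omega
  ext i
  have := i.2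
  exact key (m + 2 - i) i (by omega)

theorem card_tw_one (hσ : ∀ i j, CoxeterMatrix.B n ((1 : Equiv.Perm (Fin n)) i) ((1 : Equiv.Perm (Fin n)) j) =
    CoxeterMatrix.B n i j) : Nat.card {w : W // hat cs 1 hσ w = w⁻¹} ≤ sB n := by
  have h1 : ∀ w, hat cs 1 hσ w = w := by
    intro w
    induction w using cs.simple_induction_left with
    | one => exact map_one _
    | mul_simple_left w j ih =>
      rw [map_mul, ih, hat_simple, Equiv.Perm.one_apply]
  have h2 : (invs (Finset.univ : Finset (Fin n))).card ≤ sB n := by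
    have := card_invs_le (Finset.univ : Finset (Fin n))
    rwa [Finset.card_univ, Fintype.card_fin] at this
  refine le_trans ?_ h2
  have h3 : Nat.card ↥(invs (Finset.univ : Finset (Fin n))) = (invs (Finset.univ : Finset (Fin n))).card := by
    rw [Nat.card_eq_fintype_card, Fintype.card_coe]
  rw [← h3]
  refine Nat.card_le_card_of_injective (fun w => ⟨fun x => act cs w.1 x, ?_⟩) ?_
  · refine mem_invs.2 ⟨?_, ?_, ?_⟩
    · intro x t
      exact act_ng cs w.1 (x, t)
    · intro x
      have h4 : w.1 * w.1 = 1 := by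
        have := w.2
        rw [h1] at this
        rw [← mul_inv_cancel w.1, ← this]
      have h5 := congrArg (act cs) h4
      rw [map_mul, map_one] at h5
      exact congrFun (congrArg (fun e : Equiv.Perm (Fin n × Bool) => (e : Fin n × Bool → Fin n × Bool)) h5) x
    · intro x t hx
      exact absurd (Finset.mem_univ x) hx
  · intro w v hwv
    apply Subtype.ext
    apply act_injective cs
    ext1 x
    exact congrFun (congrArg Subtype.val hwv) x

include cs in
theorem card_W [Fintype W] : Fintype.card W = NB 1 1 n := by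
  rw [← sum_B cs 1 1 (fun _ => 1) rfl (fun w i _ => by simp)]
  simp

/-- **Twisted involutions of type `B_n`** -/
theorem card_tw_B {n : ℕ} {W : Type*} [Group W] (cs : CoxeterSystem (CoxeterMatrix.B n) W) (σ : Equiv.Perm (Fin n))
    (hσ : ∀ i j, CoxeterMatrix.B n (σ i) (σ j) = CoxeterMatrix.B n i j) :
    Nat.card {w : W // hat cs σ hσ w = w⁻¹} ≤ sB n := by
  by_cases h1 : σ = 1
  · subst h1
    exact card_tw_one cs hσ
  · have hn2 : n = 2 := by
      rcases Nat.lt_or_ge n 3 with h | h
      · interval_cases n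
        · exact absurd (Subsingleton.elim σ 1) h1
        · exact absurd (Subsingleton.elim σ 1) h1
        · rfl
      · exact absurd (perm_eq_one h hσ) h1
    subst hn2
    have := finite_W cs
    have : Fintype W := Fintype.ofFinite W
    classical
    have h2 : σ 0 = 1 ∧ σ 1 = 0 := by
      have e0 : σ 0 ≠ 0 := by
        intro h0
        apply h1
        have e1 : σ 1 = 1 := by
          have : σ 1 ≠ 0 := fun h => absurd (σ.injective (h.trans h0.symm)) (by decide)
          omega
        ext i
        fin_cases i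
        · simp [h0]
        · simp [e1]
      have e1 : σ 0 = 1 := by omega
      refine ⟨e1, ?_⟩
      have : σ 1 ≠ 1 := fun h => absurd (σ.injective (h.trans e1.symm)) (by decide)
      omega
    have hne : cs.simple 0 ≠ cs.simple 1 := by
      intro h
      have h3 := congrArg (act cs) h
      rw [act_simple, act_simple] at h3
      have h4 := congrFun (congrArg (fun e : Equiv.Perm (Fin 2 × Bool) => (e : Fin 2 × Bool → Fin 2 × Bool)) h3) (0, true)
      exact absurd h4 (by decide)
    have h3 : Fintype.card W = 8 := by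
      rw [card_W cs]
      decide
    rw [Nat.card_eq_fintype_card, Fintype.card_subtype]
    have h4 : (Finset.univ.filter fun w : W => hat cs σ hσ w = w⁻¹) ⊆ Finset.univ \ {cs.simple 0, cs.simple 1} := by
      intro w hw
      rw [Finset.mem_filter] at hw
      rw [Finset.mem_sdiff, Finset.mem_insert, Finset.mem_singleton]
      refine ⟨Finset.mem_univ w, ?_⟩
      rintro (rfl | rfl)
      · have := hw.2
        rw [hat_simple, h2.1, cs.inv_simple] at this
        exact hne this.symm
      · have := hw.2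
        rw [hat_simple, h2.2, cs.inv_simple] at this
        exact hne this
    refine (Finset.card_le_card h4).trans ?_
    rw [Finset.card_sdiff_of_subset (Finset.subset_univ _), Finset.card_univ, h3, Finset.card_pair hne]
    decide

end Cfsg.Agent.H461.CoxB
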