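import Cfsg.Agent.H217.Odm.Eng
import Cfsg.Agent.H846.PB.HS
import Cfsg.Agent.H573.Spor.Co0

/-!
# TEAM ODDM (S4785): the row of the Higman–Sims group (helper461)

`r = 7`, `|N(⟨x⟩)| = 42`; a real element of order 5 : a product of two involutions of `M22`, checked by the kernel.
-/

set_option autoImplicit false
set_option maxRecDepth 100000

namespace Cfsg.Agent.H461.OdmRowHS

open Subgroup Cfsg Cfsg.Agent.SporadicA Cfsg.Agent.SporadicStructure.Co0Matrix Cfsg.Agent.CoOneType.CoEval
open Cfsg.Agent.LThreeCo1.Ev Cfsg.Agent.LThreeMB.Fix Cfsg.Agent.H573.Spor.Co0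
open Cfsg.Agent.H453.OddM Cfsg.Agent.H217.Odm

universe u

def nS : ℕ := 0xc421084210842108421084210842108421084210842108421084210843108421084210842188421084210842108421884210842108421084210842108421084210842108431084210842108421086210842108421084210842108421084210842108421084218842108421084210842108621084210842108421084210c4210842108421084210842108421086210842108421084210842108421084210c4210842108421084310842108421084210842108421084210842108431084210842108421084210842188421084210842108421084210c4210842108421084210842108421084210842108421884210842108421084210842108421084210862108421084210842108421084310842108421084210842108421086210842108421084310842108421084210842108421084210842108421084210c421084210842108421084210c421084210862108421084210842108421084210842108421084210842108421084218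
def nT : ℕ := 0xc4210842108421084210842108421084210842188421084210842108421084210842108421084310842108421084210c4210842108421084210842108421884210842108421084210842108421086210842108421084210842108421084210862108421084210842108621084210842108421084210842108421084210c42108421084210842108421084310842108421084210842108421084210842108421084210c421084210842108421884210842108421084210842108421084210842108621084210842108421086210842108421084310842108421084210842108421084210842108421084210842108431084210842108421084210c421084210842108421084210842108621084210842108421084210842108421884210842108421084210842108431084210842108421084310842108421084210842108421084210c42108421084210842108421084210842188421084210842108421084210842108421084218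

theorem okS : okN nS = true := by decide +kernel
theorem okT : okN nT = true := by decide +kernel

def gS : Co0 := mk (ok_of_okN okS)
theorem repS : Rep gS (dec nS) := rep_mk _
def gT : Co0 := mk (ok_of_okN okT)
theorem repT : Rep gT (dec nT) := rep_mk _

/-- the elements -/
def e : ℕ → Co0
  | 0 => gS
  | _ => gT

/-- their matrices -/
def Ms : ℕ → List (List ℤ)
  | 0 => dec nS
  | _ => dec nT

theorem hM : ∀ i, Rep (e i) (Ms i)
  | 0 => repS
  | _ + 1 => repT

theorem s_sq : gS ^ 2 = 1 := by
  have h := eq_of_eqB hM (w := [0, 0]) (w' := []) (by decide +kernel)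
  simpa [e, pow_succ, mul_assoc] using h
theorem t_sq : gT ^ 2 = 1 := by
  have h := eq_of_eqB hM (w := [1, 1]) (w' := []) (by decide +kernel)
  simpa [e, pow_succ, mul_assoc] using h
theorem st_pow : (gS * gT) ^ 5 = 1 := by
  have h := eq_of_eqB hM (w := [0, 1, 0, 1, 0, 1, 0, 1, 0, 1]) (w' := []) (by decide +kernel)
  simpa [e, pow_succ, mul_assoc] using h
theorem st_ne : gS * gT ≠ 1 := by
  have h := ne_of_neB' hM (w := [0, 1]) (w' := []) (by decide +kernel)
  simpa [e, pow_succ, mul_assoc] using h

theorem memS : gS.1 ∈ Spor.HS := mem_HS repS (by decide +kernel) (by decide +kernel)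
theorem memT : gT.1 ∈ Spor.HS := mem_HS repT (by decide +kernel) (by decide +kernel)

/-- a real element of order 5 -/
theorem realP_five : RealP Spor.HS 5 := by
  have hX : Spor.HS ≤ Co0 := fun _ h => h.1.1
  have inj : Function.Injective (Subgroup.inclusion hX) := Subgroup.inclusion_injective hX
  have hs : (⟨gS.1, memS⟩ : Spor.HS) ^ 2 = 1 := inj (by rw [map_pow, map_one]; exact s_sq)
  have ht : (⟨gT.1, memT⟩ : Spor.HS) ^ 2 = 1 := inj (by rw [map_pow, map_one]; exact t_sq)
  refine ⟨(⟨gS.1, memS⟩ : Spor.HS) * ⟨gT.1, memT⟩, ?_, IsReal.of_mul hs ht⟩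
  have h5 : Fact (Nat.Prime 5) := ⟨by norm_num⟩
  refine orderOf_eq_prime (inj ?_) fun hcon => st_ne ?_
  · rw [map_pow, map_mul, map_one]; exact st_pow
  · have h1 := congrArg (Subgroup.inclusion hX) hcon
    rw [map_mul, map_one] at h1
    exact h1

/-- **The row of `HS`.** -/
theorem row (tab : Cfsg.Agent.OrdDiv.OrderTable.{u}) (known : Cfsg.Agent.H257.El.Known.{u}) {T : Type u} [Group T]
    (h : Cfsg.Spor.IsoHS T) : Cfsg.Agent.H453.OddM.Row T := by
  have hc := NotCT.Orders.hs h
  have : Finite T := Nat.finite_of_card_ne_zero (by rw [hc]; norm_num)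
  have h7 : Fact (Nat.Prime 7) := ⟨by norm_num⟩
  have hcent : ∀ x : T, orderOf x = 7 → Nat.card (centralizer ({x} : Set T)) = 7 := fun x hx =>
    (H846.PB.hs_seven h hx).1
  have hreal : RealP T 7 := by
    obtain ⟨x, hx⟩ := exists_prime_orderOf_dvd_card' (G := T) 7 (by rw [hc]; norm_num)
    exact ⟨x, hx, isConj_iff.1 (H846.PB.hs_seven h hx).2⟩
  have hno : ∀ z : T, orderOf z ≠ 7 * 5 :=
    H257.El.noOrd_of_cent (by norm_num) hcent (by norm_num) (by norm_num)
  have h5 : RealP T 5 := by
    obtain ⟨f⟩ := h
    obtain ⟨x, hx, hr⟩ := realP_five
    exact ⟨f.symm x, by rw [MulEquiv.orderOf_eq, hx], hr.symm_map f⟩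
  refine row_of_two tab known (l := [(2, 9), (3, 2), (5, 3), (7, 1), (11, 1)]) (r := 7) (nu := 6) (ss := [5]) hc
    (by norm_num) hreal (fun x hx => ?_) (fun s hs => ?_) (by decide +kernel)
  · exact (H846.PB.hs_seven' h (zpowers x) (by rw [Nat.card_zpowers, hx])).2
  · obtain rfl : s = 5 := by simpa using hs
    exact ⟨by norm_num, h5, hno⟩

end Cfsg.Agent.H461.OdmRowHS
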